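import Cfsg.Agent.H0.QS62.D
set_option maxRecDepth 100000
set_option Elab.async false
set_option linter.unusedSectionVars false
namespace H0.QS62
open H0 BN 
theorem defs_ok : DefsOK R.p defs 16 := defsOK_of_chk c20
universe u
variable {G : Type u} [Group G] [Finite G] (m0 : Model G) (h0 : m0.R = H0.MS62.R)
noncomputable def m : Model G := m0.ext (lg := nat_lit 5) (N := nat_lit 32) (l := H0.MS62.nl) h0 nl nl_ok 16 rfl defs defs_ok (by decide +kernel)
theorem mR : (m m0 h0).R = R := rfl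
variable (hb : m0.pst [5, 9, 8, 2, 1, 0] = ⊥) (hc : Nat.card G = 1451520)
include h0 hb hc
theorem base : (m m0 h0).pst [5, 9, 8, 2, 1, 0] = ⊥ := hb
omit hb hc in
theorem ch2_ok : (m m0 h0).ChainOK ch2 [] := ((m m0 h0).chain_cons [0, 1, 2] (Model.via _ (mR m0 h0) (fun R => Model.fixP R [] [[16], [17], [20]]) c6) (Model.via _ (mR m0 h0) (fun R => Model.growP R [[16], [17], [20]] [0, 1, 2] 0 8) c7) ((m m0 h0).chain_cons [0, 1] (Model.via _ (mR m0 h0) (fun R => Model.fixP R [0] [[16, 22, 24], [23, 24]]) c4) (Model.via _ (mR m0 h0) (fun R => Model.growP R [[16, 22, 24], [23, 24]] [0, 1] 1 4) c5) ((m m0 h0).chain_cons [0, 1, 2] (Model.via _ (mR m0 h0) (fun R => Model.fixP R [1, 0] [[16, 18, 19, 24], [17, 18], [21]]) c2) (Model.via _ (mR m0 h0) (fun R => Model.growP R [[16, 18, 19, 24], [17, 18], [21]] [0, 1, 2] 2 8) c3) ((m m0 h0).chain_cons [0] (Model.via _ (mR m0 h0) (fun R => Model.fixP R [2, 1, 0] [[16, 17, 19, 20]]) c0) (Model.via _ (mR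 m0 h0) (fun R => Model.growP R [[16, 17, 19, 20]] [0] 5 2) c1) ((m m0 h0).chain_nil _)))))
theorem pb2 : PBound G (2 ^ (1 + 1)) :=
  (m m0 h0).pbound C2 16 (k := 2835) (K := 3) (e := 2) hc (lt_step_all (a := 0) (k := 69) (lt_zero_all _) ((m m0 h0).rules_of (base m0 h0 hb hc) (Model.via _ (mR m0 h0) (fun R => rulesB R [5, 9, 8, 2, 1, 0] (fun i => sh 16 (C2.L i)) (fun i => sh 16 (C2.R i)) 0 69) c8))) (ch2_ok m0 h0) (by decide +kernel) tests2 (all_take_done (all_take_step (all_take_zero _ tests2) (allL_spec c9)) (by decide +kernel))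
    av2 FS2 YS2 rows2 (all_take_done (all_take_step (all_take_zero _ rows2) (allL_spec c10)) (by decide +kernel)) c11
omit hb hc in
theorem ch3_ok : (m m0 h0).ChainOK ch3 [] := ((m m0 h0).chain_cons [0, 1, 3, 2, 1, 0] (Model.via _ (mR m0 h0) (fun R => Model.fixP R [] [[28], [29], [30], [31]]) c14) (Model.via _ (mR m0 h0) (fun R => Model.growP R [[28], [29], [30], [31]] [0, 1, 3, 2, 1, 0] 1 27) c15) ((m m0 h0).chain_cons [0, 0] (Model.via _ (mR m0 h0) (fun R => Model.fixP R [1] [[28, 30, 30, 31]]) c12) (Model.via _ (mR m0 h0) (fun R => Model.growP R [[28, 30, 30, 31]] [0, 0] 2 3) c13) ((m m0 h0).chain_nil _)))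
theorem pb3 : PBound G (3 ^ (0 + 1)) :=
  (m m0 h0).pbound C3 28 (k := 17920) (K := 2) (e := 1) hc (lt_step_all (a := 0) (k := 14) (lt_zero_all _) ((m m0 h0).rules_of (base m0 h0 hb hc) (Model.via _ (mR m0 h0) (fun R => rulesB R [5, 9, 8, 2, 1, 0] (fun i => sh 28 (C3.L i)) (fun i => sh 28 (C3.R i)) 0 14) c16))) (ch3_ok m0 h0) (by decide +kernel) tests3 (all_take_done (all_take_step (all_take_zero _ tests3) (allL_spec c17)) (by decide +kernel))
    av3 FS3 YS3 rows3 (all_take_done (all_take_step (all_take_zero _ rows3) (allL_spec c18)) (by decide +kernel)) c19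
theorem bound (Γ : Type u) [Group Γ] [Finite Γ] (σ : Γ →* G) (hσ : Cfsg.IsStemExtension σ) : Nat.card σ.ker ∣ 2 :=
  card_ker_dvd (M := 7) (k := 9) (L := [2, 3]) hc (by decide +kernel) (ex_bound (pb2 m0 h0 hb hc) (by decide) (ex_bound (pb3 m0 h0 hb hc) (by decide) ex_bound_nil)) Γ σ hσ
end H0.QS62
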